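import Groth.Prelude.Def_StCurv2
import Groth.Agent.SpQS.QFAt
import Groth.Agent.StkSmall.Criterion

/-!
# Pointwise properties of families of curves and open substacks

For a pointwise property of flat, locally finitely presented morphisms of schemes which is etale
local on source and target, insensitive to base change and open, the families having it at every
point of every chart form an open substack of the stack of curves.
-/

set_option autoImplicit false
set_option backward.isDefEq.respectTransparency false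
set_option linter.style.haveILetI false
universe u

noncomputable section

namespace Groth.Agent.CurvOpen

open CategoryTheory CategoryTheory.Limits AlgebraicGeometry Groth.Agent.AlgSpLib
open _root_.AlgSp

/-- the type of pointwise properties of morphisms of schemes -/
abbrev PtPred : Type (u + 1) := ∀ (U V : Scheme.{u}), (U ⟶ V) → ↥U → Prop

/-- invariance of a pointwise property under etale changes of source and target and under base change -/
structure PtInv (Q : PtPred.{u}) : Prop where
  srcEt : ∀ {W U V : Scheme.{u}} (p : W ⟶ U) (h : U ⟶ V) [Etale p] [Flat h] [LocallyOfFinitePresentation h]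
    (w : W), Q W V (p ≫ h) w ↔ Q U V h (p w)
  tgtEt : ∀ {U V V' : Scheme.{u}} (h : U ⟶ V) (c : V ⟶ V') [Etale c] [Flat h] [LocallyOfFinitePresentation h]
    (u : U), Q U V' (h ≫ c) u ↔ Q U V h u
  bc : ∀ {U V U' V' : Scheme.{u}} {g : U' ⟶ U} {h' : U' ⟶ V'} {h : U ⟶ V} {t : V' ⟶ V}
    (_ : IsPullback g h' h t) [Flat h] [LocallyOfFinitePresentation h] (u' : U'), Q U' V' h' u' ↔ Q U V h (g u')

theorem PtInv.and {Q R : PtPred.{u}} (hQ : PtInv Q) (hR : PtInv R) :
    PtInv (fun U V h u => Q U V h u ∧ R U V h u) where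
  srcEt p h _ _ _ w := and_congr (hQ.srcEt p h w) (hR.srcEt p h w)
  tgtEt h c _ _ _ u := and_congr (hQ.tgtEt h c u) (hR.tgtEt h c u)
  bc sq _ _ u' := and_congr (hQ.bc sq u') (hR.bc sq u')

/-- a pointwise property, asked at every point -/
abbrev Everywhere (Q : PtPred.{u}) : MorphismProperty Scheme.{u} := fun U V h => ∀ u, Q U V h u

variable {S : Scheme.{u}} {Q : PtPred.{u}}

/-- a morphism of sheaves to a scheme is flat and lfp on charts -/
structure FlatFp {X : Sp S} {T : Over S} (f : X ⟶ (yon S).obj T) : Prop where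
  isAlgSpace : IsAlgSpace X
  flat : LocP @Flat f
  lfp : LocP @LocallyOfFinitePresentation f

theorem FlatFp.of_isCurveFam {A : CurvSt.SpFamObj S 0} (h : CurvSt.IsCurveFam A) : FlatFp A.f :=
  ⟨h.1, h.2.1, h.2.2.2.1.1⟩

/-- the property at a point does not depend on the chart -/
theorem chart_congr (hQ : PtInv Q) {X : Sp S} {T : Over S} {f : X ⟶ (yon S).obj T} (hf : FlatFp f)
    {U V U' V' : Over S} {a : (yon S).obj U ⟶ X} {b : (yon S).obj V ⟶ (yon S).obj T} {h : U ⟶ V}
    (ha : RepWith @Etale a) (hb : RepWith @Etale b) (comm : a ≫ f = (yon S).map h ≫ b)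
    {a' : (yon S).obj U' ⟶ X} {b' : (yon S).obj V' ⟶ (yon S).obj T} {h' : U' ⟶ V'}
    (ha' : RepWith @Etale a') (hb' : RepWith @Etale b') (comm' : a' ≫ f = (yon S).map h' ≫ b')
    {u : U.left} {u' : U'.left} (e : Points.ofPt a u = Points.ofPt a' u') :
    Q _ _ h.left u ↔ Q _ _ h'.left u' := by
  obtain ⟨c, rfl⟩ := (yon S).map_surjective b
  obtain ⟨c', rfl⟩ := (yon S).map_surjective b'
  obtain ⟨R, p₁, p₂, sqR⟩ := exists_pullback hf.isAlgSpace.diag a a'
  have hp₁ : Etale p₁.left := (repWith_yon_iff p₁).1 (repWith_baseChange sqR.flip ha')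
  have hp₂ : Etale p₂.left := (repWith_yon_iff p₂).1 (repWith_baseChange sqR ha)
  have hc : Etale c.left := (repWith_yon_iff c).1 hb
  have hc' : Etale c'.left := (repWith_yon_iff c').1 hb'
  have hF : Flat h.left := hf.flat a _ h ha hb comm
  have hL : LocallyOfFinitePresentation h.left := hf.lfp a _ h ha hb comm
  have hF' : Flat h'.left := hf.flat a' _ h' ha' hb' comm'
  have hL' : LocallyOfFinitePresentation h'.left := hf.lfp a' _ h' ha' hb' comm'
  have key : p₁ ≫ h ≫ c = p₂ ≫ h' ≫ c' := (yon S).map_injective (by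
    simp only [Functor.map_comp]
    rw [← comm, ← comm', sqR.w_assoc])
  have key' : p₁.left ≫ h.left ≫ c.left = p₂.left ≫ h'.left ≫ c'.left :=
    congrArg (fun g => g.left) key
  obtain ⟨w, rfl, rfl⟩ := (ofPt_eq_iff sqR u u').1 e
  rw [← hQ.tgtEt h.left c.left, ← hQ.srcEt p₁.left (h.left ≫ c.left) w, key',
    hQ.srcEt p₂.left (h'.left ≫ c'.left) w, hQ.tgtEt h'.left c'.left]

/-- every point lies on an etale surjective chart over the identity -/
theorem exists_atlas {X : Sp S} {T : Over S} {f : X ⟶ (yon S).obj T} (hf : FlatFp f) :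
    ∃ (U : Over S) (a : (yon S).obj U ⟶ X) (h : U ⟶ T),
      RepWith @Etale a ∧ RepWith @Surjective a ∧ a ≫ f = (yon S).map h ∧
        Flat h.left ∧ LocallyOfFinitePresentation h.left := by
  obtain ⟨U, a, ha, has⟩ := hf.isAlgSpace.atlas
  obtain ⟨h, hh⟩ := (yon S).map_surjective (a ≫ f)
  have comm : a ≫ f = (yon S).map h ≫ 𝟙 _ := by rw [Category.comp_id, hh]
  exact ⟨U, a, h, ha, has, hh.symm, hf.flat a _ h ha (repWith_id _ T) comm, hf.lfp a _ h ha (repWith_id _ T) comm⟩

/-- one atlas suffices -/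
theorem locP_everywhere_iff (hQ : PtInv Q) {X : Sp S} {T : Over S} {f : X ⟶ (yon S).obj T} (hf : FlatFp f)
    {U : Over S} {a : (yon S).obj U ⟶ X} {h : U ⟶ T} (ha : RepWith @Etale a) (has : RepWith @Surjective a)
    (comm : a ≫ f = (yon S).map h) : LocP (Everywhere Q) f ↔ ∀ u, Q _ _ h.left u := by
  have comm₁ : a ≫ f = (yon S).map h ≫ 𝟙 _ := by rw [Category.comp_id, comm]
  refine ⟨fun H => H a _ h ha (repWith_id _ T) comm₁, fun H U' V' a' b' h' ha' hb' comm' u' => ?_⟩
  obtain ⟨u, hu⟩ := ofPt_surjective has (Points.ofPt a' u')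
  exact (chart_congr hQ hf ha (repWith_id _ T) comm₁ ha' hb' comm' hu).1 (H u)

/-- reading a property at a point from some chart is reading it from any chart -/
theorem hasAtMor_iff (hQ : PtInv Q) {X : Sp S} {T : Over S} {f : X ⟶ (yon S).obj T} (hf : FlatFp f)
    {U : Over S} {a : (yon S).obj U ⟶ X} {h : U ⟶ T} (ha : RepWith @Etale a)
    (comm : a ≫ f = (yon S).map h) (u : U.left) :
    HasAtMor Q f (Points.ofPt a u) ↔ Q _ _ h.left u := by
  have comm₁ : a ≫ f = (yon S).map h ≫ 𝟙 _ := by rw [Category.comp_id, comm]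
  refine ⟨?_, fun H => ⟨U, T, a, _, h, u, ha, repWith_id _ T, comm₁, rfl, H⟩⟩
  rintro ⟨U', V', a', b', h', u', ha', hb', comm', hu', H⟩
  exact (chart_congr hQ hf ha (repWith_id _ T) comm₁ ha' hb' comm' hu'.symm).2 H

theorem forall_hasAtMor_iff (hQ : PtInv Q) {X : Sp S} {T : Over S} {f : X ⟶ (yon S).obj T} (hf : FlatFp f) :
    (∀ x, HasAtMor Q f x) ↔ LocP (Everywhere Q) f := by
  obtain ⟨U, a, h, ha, has, comm, -, -⟩ := exists_atlas hf
  rw [locP_everywhere_iff hQ hf ha has comm]
  refine ⟨fun H u => (hasAtMor_iff hQ hf ha comm u).1 (H _), fun H x => ?_⟩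
  obtain ⟨u, rfl⟩ := ofPt_surjective has x
  exact (hasAtMor_iff hQ hf ha comm u).2 (H u)

/-- the condition on relative dimension -/
abbrev DimLE (d : ℕ) : PtPred.{u} := fun _ _ h u => FlatMor.fibreDimAt h u ≤ (d : WithBot ℕ∞)

set_option maxHeartbeats 1000000 in
/-- the locus in the base over which a family has the property everywhere -/
theorem exists_open_locus (hQ : PtInv Q) (hD : PtInv (DimLE.{u} 1))
    (hopen : ∀ {U V : Scheme.{u}} (h : U ⟶ V) [Flat h] [LocallyOfFinitePresentation h],
      (∀ u, DimLE.{u} 1 U V h u) → IsOpen {u | Q U V h u})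
    (A : CurvSt.SpFamObj S 0) (hA : CurvSt.IsCurveFam A) :
    ∃ V : A.base.left.Opens, ∀ {B : CurvSt.SpFamObj S 0} (m : B ⟶ A), CurvSt.IsCurveFam B →
      (LocP (Everywhere Q) B.f ↔ Set.range m.base.left ⊆ V) := by
  have hf := FlatFp.of_isCurveFam hA
  obtain ⟨U, a, h, ha, has, comm, hF, hL⟩ := exists_atlas hf
  have comm₁ : a ≫ A.f = (yon S).map h ≫ 𝟙 _ := by rw [Category.comp_id, comm]
  have hdim : ∀ u, DimLE.{u} 1 _ _ h.left u := fun u => (hasAtMor_iff hD hf ha comm u).1 (hA.2.2.2.2 _)
  let bad : Set U.left := {u | ¬ Q _ _ h.left u}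
  have hbad : IsClosed bad := isClosed_compl_iff.2 (hopen h.left hdim)
  let Z : Set (Points A.X) := Points.ofPt a '' bad
  have hsat : Points.ofPt a ⁻¹' Z = bad := by
    refine Set.Subset.antisymm ?_ (Set.subset_preimage_image _ _)
    rintro u ⟨u₂, hu₂, e⟩
    exact fun H => hu₂ ((chart_congr hQ hf ha (repWith_id _ _) comm₁ ha (repWith_id _ _) comm₁ e).2 H)
  have hZ : IsClosed Z := by
    rw [← (isQuotientMap_ofPt ha has).isClosed_preimage, hsat]
    exact hbad
  have hclosed : IsClosedMap (Points.map A.f) :=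
    hA.2.2.1.2.2 (IsAlgSpace.yon_obj A.base) (𝟙 _) (𝟙 A.X) A.f (IsPullback.of_horiz_isIso ⟨by simp⟩)
  have hpt : ∀ u, Points.map A.f (Points.ofPt a u) = Points.schemeHomeo A.base (h.left u) := fun u => by
    rw [Points.map_ofPt, comm, Points.ofPt_eq_map_ofScheme]
    exact Points.map_yon_map_apply h u
  have hK : IsClosed (h.left '' bad) := by
    have : h.left '' bad = Points.schemeHomeo A.base ⁻¹' (Points.map A.f '' Z) := by
      ext t
      simp only [Z, Set.mem_preimage, Set.mem_image, exists_exists_and_eq_and, hpt,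
        EmbeddingLike.apply_eq_iff_eq]
    rw [this]
    exact (hclosed _ hZ).preimage (Points.schemeHomeo A.base).continuous
  refine ⟨⟨(h.left '' bad)ᶜ, hK.isOpen_compl⟩, fun {B} m hB => ?_⟩
  let U' : Over S := Over.mk (pullback.snd h.left m.base.left ≫ B.base.hom)
  let g : U' ⟶ U := Over.homMk (pullback.fst h.left m.base.left) (by
    show _ = pullback.snd h.left m.base.left ≫ B.base.hom
    rw [← Over.w m.base, ← pullback.condition_assoc, Over.w h])
  let h' : U' ⟶ B.base := Over.homMk (pullback.snd h.left m.base.left) rfl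
  have sq : IsPullback g h' h m.base :=
    IsPullback.of_map (Over.forget S) (Over.OverMorphism.ext pullback.condition)
      (IsPullback.of_hasPullback h.left m.base.left)
  have sqy := sq.map (yon S)
  let a' := m.cart.lift ((yon S).map g ≫ a) ((yon S).map h') (by rw [Category.assoc, comm]; exact sqy.w)
  have ha'₁ : a' ≫ m.top = (yon S).map g ≫ a := m.cart.lift_fst _ _ _
  have ha'₂ : a' ≫ B.f = (yon S).map h' := m.cart.lift_snd _ _ _
  have sqa : IsPullback ((yon S).map g) a' a m.top :=
    IsPullback.of_bot (show IsPullback ((yon S).map g) (a' ≫ B.f) (a ≫ A.f) ((yon S).map m.base) by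
      rw [ha'₂, comm]; exact sqy) ha'₁.symm m.cart
  rw [locP_everywhere_iff hQ (FlatFp.of_isCurveFam hB) (repWith_baseChange sqa ha) (repWith_baseChange sqa has) ha'₂]
  have sq' := IsPullback.of_hasPullback h.left m.base.left
  constructor
  · rintro H _ ⟨z, rfl⟩ ⟨u, hu, e⟩
    obtain ⟨w, hw₁, -⟩ := Scheme.Pullback.exists_preimage_pullback u z e
    apply hu
    rw [← hw₁]
    exact (hQ.bc sq' w).1 (H w)
  · intro H w
    refine (hQ.bc sq' w).2 (by_contra fun hn => H ⟨(pullback.snd h.left m.base.left) w, rfl⟩ ⟨_, hn, ?_⟩)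
    rw [← Scheme.Hom.comp_apply, pullback.condition, Scheme.Hom.comp_apply]

/-- open substacks of the stack of curves from pointwise properties -/
theorem isOpenSubstack_curves (hC : AlgSt.IsAlgStack Scheme.fppfPrecoverage (CurvSt.Curves S 0))
    (hQ : PtInv Q) (hD : PtInv (DimLE.{u} 1))
    (hopen : ∀ {U V : Scheme.{u}} (h : U ⟶ V) [Flat h] [LocallyOfFinitePresentation h],
      (∀ u, DimLE.{u} 1 U V h u) → IsOpen {u | Q U V h u})
    (R : (CurvSt.Curves S 0).obj → Prop) (hR : ∀ A, R A ↔ LocP (Everywhere Q) A.obj.f) :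
    AlgSt.IsOpenSubstack (CurvSt.Curves S 0) R Scheme.fppfPrecoverage := by
  refine Groth.Agent.StkSmall.isOpenSubstack_of_locus hC R fun A => ?_
  obtain ⟨V, hV⟩ := exists_open_locus hQ hD hopen A.obj A.property
  exact ⟨V, fun {B} m => (hR B).trans (hV m.hom B.property)⟩

end Groth.Agent.CurvOpen

end
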