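import Groth.Agent.CurvOpen.Chart
import Groth.Agent.NodeFib.Point
import Groth.Agent.InfLift.SmoothLift
import Groth.Agent.SpRelDim.Scheme
import Groth.Agent.SpRelDim.LocalDim
import Groth.Agent.LocalDimBC.Scheme
import Groth.Agent.LocalDimBC.Smooth
import Groth.Agent.SubgrpLocus.Basic

/-!
# Smoothness and fibre dimension as pointwise properties
-/

set_option autoImplicit false
set_option backward.isDefEq.respectTransparency false
set_option linter.style.haveILetI false
universe u

noncomputable section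

namespace Groth.Agent.CurvOpen

open CategoryTheory CategoryTheory.Limits AlgebraicGeometry
open _root_.AlgSp

/-- fibre dimension exactly `d` -/
abbrev DimEq (d : ℕ) : PtPred.{u} := fun _ _ h u => FlatMor.fibreDimAt h u = (d : WithBot ℕ∞)

theorem ptInv_dimLE (d : ℕ) : PtInv (DimLE.{u} d) where
  srcEt p h _ _ _ w := by simp only [DimLE]; rw [SpRelDim.fibreDimAt_etale_comp]
  tgtEt h c _ _ _ u := by simp only [DimLE]; rw [SpRelDim.fibreDimAt_comp_etale]
  bc {U V U' V' g h' h t} sq _ _ u' := by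
    simp only [DimLE]; rw [LocalDimBC.fibreDimAt_of_isPullback h t g h' sq u']

theorem ptInv_dimEq (d : ℕ) : PtInv (DimEq.{u} d) where
  srcEt p h _ _ _ w := by simp only [DimEq]; rw [SpRelDim.fibreDimAt_etale_comp]
  tgtEt h c _ _ _ u := by simp only [DimEq]; rw [SpRelDim.fibreDimAt_comp_etale]
  bc {U V U' V' g h' h t} sq _ _ u' := by
    simp only [DimEq]; rw [LocalDimBC.fibreDimAt_of_isPullback h t g h' sq u']

/-- smooth at a point -/
abbrev SmAt : PtPred.{u} := fun _ _ h u => (h.stalkMap u).hom.FormallySmooth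

theorem smoothLocus_comp_etale {U V V' : Scheme.{u}} (h : U ⟶ V) [LocallyOfFinitePresentation h] (c : V ⟶ V')
    [Etale c] : (h ≫ c).smoothLocus = h.smoothLocus := by
  refine le_antisymm (fun x hx => ?_) fun x hx => ?_
  · haveI : Smooth (((h ≫ c).smoothLocus.ι ≫ h) ≫ c) := by
      rw [Category.assoc]
      exact SmDesc.smooth_smoothLocus (h ≫ c)
    haveI := InfLift.smooth_of_comp_etale ((h ≫ c).smoothLocus.ι ≫ h) c
    exact SmDesc.mem_smoothLocus_of_smooth_ι h hx
  · haveI : Smooth (h.smoothLocus.ι ≫ h) := SmDesc.smooth_smoothLocus h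
    haveI : Smooth (h.smoothLocus.ι ≫ h ≫ c) := by
      rw [← Category.assoc]
      infer_instance
    exact SmDesc.mem_smoothLocus_of_smooth_ι (h ≫ c) hx

theorem ptInv_smAt : PtInv SmAt.{u} where
  srcEt p h _ _ _ w := NodeFib.mem_smoothLocus_etale h p w
  tgtEt h c _ _ _ u := SetLike.ext_iff.1 (smoothLocus_comp_etale h c) u
  bc {U V U' V' g h' h t} sq _ _ u' := by
    haveI : LocallyOfFinitePresentation h' := MorphismProperty.of_isPullback sq ‹_›
    exact SetLike.ext_iff.1 (SmDesc.smoothLocus_eq_preimage sq (Or.inl inferInstance)) u'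

theorem everywhere_smAt_iff {U V : Scheme.{u}} (h : U ⟶ V) [LocallyOfFinitePresentation h] :
    Everywhere SmAt h ↔ Smooth h := by
  rw [← Scheme.Hom.smoothLocus_eq_top_iff]
  exact ⟨fun H => top_le_iff.1 fun x _ => H x, fun H x => (H.symm ▸ trivial : x ∈ h.smoothLocus)⟩

theorem isOpen_smAt {U V : Scheme.{u}} (h : U ⟶ V) [LocallyOfFinitePresentation h] :
    IsOpen {u | SmAt U V h u} := h.isOpen_smoothLocus

theorem isOpen_smAt_dimEq {U V : Scheme.{u}} (h : U ⟶ V) [LocallyOfFinitePresentation h] (d : ℕ) :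
    IsOpen {u | SmAt U V h u ∧ DimEq d U V h u} := by
  refine isOpen_iff_forall_mem_open.2 fun x hx => ?_
  haveI : Smooth (h.smoothLocus.ι ≫ h) := SmDesc.smooth_smoothLocus h
  obtain ⟨W, j, w, n, hj, hw, hn⟩ :=
    SpRelDim.exists_constant_fibreDim_of_smooth (h.smoothLocus.ι ≫ h) ⟨x, hx.1⟩
  have hdim : ∀ z, FlatMor.fibreDimAt h ((j ≫ h.smoothLocus.ι) z) = n := fun z => by
    rw [← SpRelDim.fibreDimAt_etale_comp, Category.assoc]
    exact hn z
  have hwx : (j ≫ h.smoothLocus.ι) w = x := by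
    rw [Scheme.Hom.comp_apply, hw]
    rfl
  refine ⟨Set.range (j ≫ h.smoothLocus.ι), ?_, (j ≫ h.smoothLocus.ι).isOpenEmbedding.isOpen_range,
    ⟨w, hwx⟩⟩
  rintro _ ⟨z, rfl⟩
  have h2 := hdim w
  rw [hwx, hx.2] at h2
  refine ⟨(j z).2, ?_⟩
  simp only [DimEq]
  rw [hdim z, h2]

theorem everywhere_smAt_dimEq_iff {U V : Scheme.{u}} (h : U ⟶ V) [LocallyOfFinitePresentation h] (d : ℕ) :
    Everywhere (fun U V h u => SmAt U V h u ∧ DimEq d U V h u) h ↔ SmoothOfRelativeDimension d h := by
  constructor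
  · intro H
    haveI : Smooth h := (everywhere_smAt_iff h).1 fun u => (H u).1
    exact SubgrpLocus.smoothOfRelativeDimension_of_fibreDimAt h d fun u => (H u).2
  · intro H u
    haveI : Smooth h := SmoothOfRelativeDimension.smooth d h
    exact ⟨(everywhere_smAt_iff h).2 inferInstance u,
      LocalDimBC.fibreDimAt_of_smoothOfRelativeDimension d h u⟩

theorem locP_congr {S : Scheme.{u}} {X : Sp S} {T : Over S} {f : X ⟶ (yon S).obj T} (hf : FlatFp f)
    {P P' : MorphismProperty Scheme.{u}}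
    (H : ∀ {U V : Scheme.{u}} (h : U ⟶ V) [Flat h] [LocallyOfFinitePresentation h], P h ↔ P' h) :
    LocP P f ↔ LocP P' f := by
  constructor <;> intro K U V a b h ha hb comm
  all_goals
    haveI : Flat h.left := hf.flat a b h ha hb comm
    haveI : LocallyOfFinitePresentation h.left := hf.lfp a b h ha hb comm
  · exact (H h.left).1 (K a b h ha hb comm)
  · exact (H h.left).2 (K a b h ha hb comm)

theorem isOpenSubstack_smooth {S : Scheme.{u}}
    (hC : AlgSt.IsAlgStack Scheme.fppfPrecoverage (CurvSt.Curves S 0)) :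
    AlgSt.IsOpenSubstack (CurvSt.Curves S 0) (fun A => LocP @Smooth A.obj.f) Scheme.fppfPrecoverage :=
  isOpenSubstack_curves hC ptInv_smAt (ptInv_dimLE 1) (fun h _ _ _ => isOpen_smAt h) _ fun A =>
    locP_congr (FlatFp.of_isCurveFam A.property) fun h _ _ => (everywhere_smAt_iff h).symm

theorem isOpenSubstack_smoothRelDimOne {S : Scheme.{u}}
    (hC : AlgSt.IsAlgStack Scheme.fppfPrecoverage (CurvSt.Curves S 0)) :
    AlgSt.IsOpenSubstack (CurvSt.Curves S 0)
      (fun A => LocP (fun _ _ h => SmoothOfRelativeDimension 1 h) A.obj.f) Scheme.fppfPrecoverage :=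
  isOpenSubstack_curves hC (ptInv_smAt.and (ptInv_dimEq 1)) (ptInv_dimLE 1)
    (fun h _ _ _ => isOpen_smAt_dimEq h 1) _ fun A =>
    locP_congr (FlatFp.of_isCurveFam A.property) fun h _ _ => (everywhere_smAt_dimEq_iff h 1).symm

end Groth.Agent.CurvOpen

end
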